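import Groth.Agent.Lib.UnitLF26.Basic
import Groth.Agent.Lib.RegSheaf.BCMate
import Groth.Agent.Lib.FormalFun.Levels
import Groth.Agent.Lib.OmegaFree.Basic
import Groth.Agent.Lib.Seesaw26.Local
import Groth.Agent.Lib.GenCover.Basic
import Groth.Agent.Lib.ProjCoh.Finite
import Groth.Agent.Lib.OX.LocFreeTensor

/-! # Bundles trivial on the fibres -/

set_option autoImplicit false
set_option linter.style.haveILetI false
set_option backward.isDefEq.respectTransparency false
set_option maxHeartbeats 1000000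
universe u

noncomputable section

open CategoryTheory CategoryTheory.Limits AlgebraicGeometry Opposite TopologicalSpace TensorProduct

namespace GrothLib.FibTriv28

open GrothLib

/-- The rank of a module at a point. -/
def rk {X : Scheme.{u}} (E : X.Modules) (x : X) : ℕ :=
  Module.finrank (X.presheaf.stalk x) (E.presheaf.stalk x)

theorem rk_iso {X : Scheme.{u}} {E E' : X.Modules} (e : E ≅ E') (x : X) : rk E x = rk E' x :=
  ((OX.stalk x).mapIso e).toLinearEquiv.finrank_eq

theorem rk_freeMod (X : Scheme.{u}) (n : ℕ) (x : X) : rk (FlatMod.freeMod X n) x = n := by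
  obtain ⟨b⟩ := OmegaFree.exists_basis_stalk (M := FlatMod.freeMod X n) (n := n)
    (fun y => ⟨⊤, trivial, ⟨DCoh.restrictFreeModIso _ n⟩⟩) x
  exact Module.finrank_eq_nat_card_basis b |>.trans (by simp)

theorem exists_nhd_rk {X : Scheme.{u}} {E : X.Modules} (hE : FlatMod.IsFinLocFree E) (x : X) :
    ∃ U : X.Opens, x ∈ U ∧ ∀ y ∈ U, Module.Free (X.presheaf.stalk y) (E.presheaf.stalk y) ∧
      Module.Finite (X.presheaf.stalk y) (E.presheaf.stalk y) ∧ rk E y = rk E x := by
  obtain ⟨U, n, hx, ⟨φ⟩⟩ := hE x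
  obtain ⟨e, he⟩ := FinCov.exists_frame_of_iso φ
  have hU : U.ι ''ᵁ ⊤ = U := Scheme.Opens.ι_image_top U
  have hb : ∀ y ∈ U, ∃ _ : Module.Basis (Fin n) (X.presheaf.stalk y) (E.presheaf.stalk y), True := fun y hy => by
    obtain ⟨b⟩ := Euler.stalk_basis_of_frame he (show y ∈ U.ι ''ᵁ ⊤ from hU.symm ▸ hy)
    exact ⟨b, trivial⟩
  refine ⟨U, hx, fun y hy => ?_⟩
  obtain ⟨b, -⟩ := hb y hy
  obtain ⟨b', -⟩ := hb x hx
  exact ⟨Module.Free.of_basis b, Module.Finite.of_basis b,
    ((Module.finrank_eq_nat_card_basis b).trans (Module.finrank_eq_nat_card_basis b').symm)⟩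

theorem isLocallyConstant_rk {X : Scheme.{u}} {E : X.Modules} (hE : FlatMod.IsFinLocFree E) :
    IsLocallyConstant (rk E) :=
  (IsLocallyConstant.iff_exists_open _).2 fun x =>
    let ⟨U, hx, h⟩ := exists_nhd_rk hE x
    ⟨U, U.2, hx, fun y hy => (h y hy).2.2⟩

theorem rk_pullback {X Z : Scheme.{u}} (i : Z ⟶ X) {E : X.Modules} (hE : FlatMod.IsFinLocFree E) (z : Z) :
    rk ((Scheme.Modules.pullback i).obj E) z = rk E (i z) := by
  obtain ⟨U, hx, h⟩ := exists_nhd_rk hE (i z)
  obtain ⟨hfree, hfin, -⟩ := h _ hx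
  letI : Algebra (X.presheaf.stalk (i z)) (Z.presheaf.stalk z) := (i.stalkMap z).hom.toAlgebra
  haveI : Module.Free (X.presheaf.stalk (i z)) ((OX.stalk (i z)).obj E) := hfree
  refine ((OX.pullStalkIso i z).app E).toLinearEquiv.finrank_eq.trans ?_
  exact Module.finrank_baseChange (R := Z.presheaf.stalk z) (S := X.presheaf.stalk (i z))
    (M' := (OX.stalk (i z)).obj E)

/-- A map of bundles which is an isomorphism on a fibre is bijective on stalks along it. -/
theorem isIso_stalk_of_isIso_pullback {X Z : Scheme.{u}} (i : Z ⟶ X) [IsPreimmersion i] {F E : X.Modules}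
    (hF : FlatMod.IsFinLocFree F) (hE : FlatMod.IsFinLocFree E) (φ : F ⟶ E)
    [IsIso ((Scheme.Modules.pullback i).map φ)] (z : Z) : IsIso ((OX.stalk (i z)).map φ) := by
  obtain ⟨U, hx, h⟩ := exists_nhd_rk hF (i z)
  obtain ⟨hFfree, hFfin, -⟩ := h _ hx
  obtain ⟨V, hx', h'⟩ := exists_nhd_rk hE (i z)
  obtain ⟨hEfree, hEfin, -⟩ := h' _ hx'
  have hrk : rk F (i z) = rk E (i z) := by
    rw [← rk_pullback i hF z, ← rk_pullback i hE z]
    exact rk_iso (asIso ((Scheme.Modules.pullback i).map φ)) z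
  have hz : Epi ((ModuleCat.extendScalars (i.stalkMap z).hom).map ((OX.stalk (i z)).map φ)) := by
    refine ((MorphismProperty.epimorphisms _).arrow_mk_iso_iff
      (Arrow.isoMk ((OX.pullStalkIso i z).app F) ((OX.pullStalkIso i z).app E)
        ((OX.pullStalkIso i z).hom.naturality φ).symm)).1 ?_
    exact (OX.epi_iff _).1 (inferInstance : Epi ((Scheme.Modules.pullback i).map φ)) z
  rw [ModuleCat.epi_iff_surjective] at hz
  haveI : Module.Finite (X.presheaf.stalk (i z)) ((OX.stalk (i z)).obj E) := hEfin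
  haveI : Module.Free (X.presheaf.stalk (i z)) ((OX.stalk (i z)).obj E) := hEfree
  haveI : Module.Finite (X.presheaf.stalk (i z)) ((OX.stalk (i z)).obj F) := hFfin
  haveI : Module.Free (X.presheaf.stalk (i z)) ((OX.stalk (i z)).obj F) := hFfree
  letI : Algebra (X.presheaf.stalk (i z)) (Z.presheaf.stalk z) := (i.stalkMap z).hom.toAlgebra
  have hs : Function.Surjective ((OX.stalk (i z)).map φ).hom := by
    refine FormalFun.surjective_of_baseChange (Z.presheaf.stalk z) (i.stalkMap_surjective z) ?_ _ hz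
    rw [IsLocalRing.jacobson_eq_maximalIdeal (⊥ : Ideal _) bot_ne_top]
    exact IsLocalRing.le_maximalIdeal (RingHom.ker_ne_top _)
  let e : (OX.stalk (i z)).obj E ≃ₗ[X.presheaf.stalk (i z)] (OX.stalk (i z)).obj F :=
    LinearEquiv.ofFinrankEq _ _ hrk.symm
  have hi : Function.Injective (e.toLinearMap ∘ₗ ((OX.stalk (i z)).map φ).hom) :=
    OrzechProperty.injective_of_surjective_endomorphism _ (e.surjective.comp hs)
  exact (ConcreteCategory.isIso_iff_bijective _).2
    ⟨Function.Injective.of_comp (f := e) (g := ((OX.stalk (i z)).map φ).hom) hi, hs⟩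

section Point

variable {κ : Type u} [Field κ] {Z : Scheme.{u}} (h : Z ⟶ Spec (CommRingCat.of κ))

/-- The functions on a scheme with no non-constant functions. -/
theorem finrank_functions_eq_one (hh : Function.Bijective (h.app ⊤)) :
    letI : Algebra κ Γ(Z, ⊤) := (Coh.toGlobal h).toAlgebra
    Function.Bijective (algebraMap κ Γ(Z, ⊤)) := by
  exact hh.comp (ConcreteCategory.bijective_of_isIso (Scheme.ΓSpecIso (CommRingCat.of κ)).inv)

/-- The rank of the sections of a free module on such a scheme. -/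
theorem finrank_H0_freeMod [Z.Over (Spec (CommRingCat.of κ))]
    (hh : Function.Bijective ((Z ↘ Spec (CommRingCat.of κ)).app ⊤)) (n : ℕ) :
    Module.finrank κ (Coh.HH Z (FlatMod.freeMod Z n) 0) = n := by
  let φ : (FlatMod.freeMod Z n).restrict (⊤ : Z.Opens).ι ≅ FlatMod.freeMod (↑(⊤ : Z.Opens)) n :=
    DCoh.restrictFreeModIso _ n
  obtain ⟨e, he⟩ := FinCov.exists_frame_of_iso φ
  let b := he.basis ⊤ (Scheme.Opens.ι_image_top (⊤ : Z.Opens)).ge
  letI : Algebra κ Γ(Z, ⊤) := (Coh.toGlobal (Z ↘ Spec (CommRingCat.of κ))).toAlgebra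
  let c := RingEquiv.ofBijective (algebraMap κ Γ(Z, ⊤)) (finrank_functions_eq_one _ hh)
  let E : Coh.HH Z (FlatMod.freeMod Z n) 0 ≃ₗ[κ] (Fin n → κ) :=
    { ((ProjCoh.H0top (FlatMod.freeMod Z n)).trans b.equivFun.toAddEquiv).trans
        (AddEquiv.arrowCongr (Equiv.refl _) c.symm.toAddEquiv) with
      map_smul' := fun a x => by
        funext j
        show c.symm (b.equivFun (ProjCoh.H0top _ (a • x)) j) = a • c.symm (b.equivFun (ProjCoh.H0top _ x) j)
        rw [ProjCoh.H0top_smul, map_smul, Pi.smul_apply, smul_eq_mul, smul_eq_mul, map_mul]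
        refine congrArg (· * _) (c.symm_apply_eq.2 ?_)
        rfl }
  rw [E.finrank_eq, Module.finrank_fin_fun]

end Point

variable {X S : Scheme.{u}} (f : X ⟶ S)

theorem fiberRank_of_iso (E : X.Modules) (s : S) (r : ℕ)
    (hh : Function.Bijective ((f.fiberToSpecResidueField s).app ⊤))
    (e : (Scheme.Modules.pullback (f.fiberι s)).obj E ≅ FlatMod.freeMod (f.fiber s) r) :
    CohIII.fiberRank f E 0 s = r := by
  letI : (f.fiber s).Over (Spec (CommRingCat.of (S.residueField s))) := ⟨f.fiberToSpecResidueField s⟩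
  obtain ⟨a, ha⟩ := BCCoh.exists_hh_equiv (B := S.residueField s) (f.fiberToSpecResidueField s) e 0
  exact ((a.toLinearEquiv ha).finrank_eq).trans (finrank_H0_freeMod (κ := S.residueField s) hh r)

/-- The counit is an isomorphism on a fibre where base change holds and the module is trivial. -/
theorem isIso_pullback_counit (E : X.Modules) (s : S) (r : ℕ)
    (hh : ∀ U, Function.Bijective ((f.fiberToSpecResidueField s).app U))
    (e : (Scheme.Modules.pullback (f.fiberι s)).obj E ≅ FlatMod.freeMod (f.fiber s) r)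
    [IsIso (CohBC.bc0 f (S.fromSpecResidueField s) (f.fiberToSpecResidueField s) (f.fiberι s) (f.fiber_fac s) E)] :
    IsIso ((Scheme.Modules.pullback (f.fiberι s)).map
      ((Scheme.Modules.pullbackPushforwardAdjunction f).counit.app E)) := by
  let q := S.fromSpecResidueField s
  let fs := f.fiberToSpecResidueField s
  let adj := Scheme.Modules.pullbackPushforwardAdjunction fs
  have hfree : FlatMod.IsFinLocFree (FlatMod.freeMod (Spec (S.residueField s)) r) :=
    OX.isFinLocFree_freeMod _ _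
  haveI : IsIso (adj.counit.app ((Scheme.Modules.pullback (f.fiberι s)).obj E)) :=
    ((UnitLF26.isPullback_iff fs hh _).1 ⟨_, hfree, ⟨e ≪≫ (OX.pullFreeModIso fs r).symm⟩⟩).2
  have hm := RegSheaf.bc0_eq_mate f q fs (f.fiberι s) (f.fiber_fac s) E
  rw [← Equiv.eq_symm_apply] at hm
  set k := (Scheme.Modules.pullback (f.fiberι s)).map
    ((Scheme.Modules.pullbackPushforwardAdjunction f).counit.app E)
  have hk : IsIso ((Scheme.Modules.pullbackComp fs q).hom.app ((Scheme.Modules.pushforward f).obj E) ≫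
      (Scheme.Modules.pullbackCongr (f.fiber_fac s).symm).hom.app _ ≫
        (Scheme.Modules.pullbackComp (f.fiberι s) f).inv.app _ ≫ k) := by
    rw [hm, Adjunction.homEquiv_counit]
    haveI : IsIso (adj.counit.app ((Scheme.Modules.pullback (f.fiberι s)).obj ((𝟭 X.Modules).obj E))) := ‹_›
    exact IsIso.comp_isIso
  haveI := hk
  haveI := IsIso.of_isIso_comp_left ((Scheme.Modules.pullbackComp fs q).hom.app ((Scheme.Modules.pushforward f).obj E))
    ((Scheme.Modules.pullbackCongr (f.fiber_fac s).symm).hom.app _ ≫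
      (Scheme.Modules.pullbackComp (f.fiberι s) f).inv.app _ ≫ k)
  haveI := IsIso.of_isIso_comp_left ((Scheme.Modules.pullbackCongr (f.fiber_fac s).symm).hom.app ((Scheme.Modules.pushforward f).obj E))
    ((Scheme.Modules.pullbackComp (f.fiberι s) f).inv.app _ ≫ k)
  exact IsIso.of_isIso_comp_left ((Scheme.Modules.pullbackComp (f.fiberι s) f).inv.app ((Scheme.Modules.pushforward f).obj E)) k

end GrothLib.FibTriv28
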