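import Groth.Agent.Lib.FibTriv28.IsoLocus
import Groth.Agent.Lib.BCCrit.Degree0
import Groth.Agent.Lib.Seesaw26.Criterion
import Groth.Agent.Lib.Seesaw26.FieldFunctions
import Groth.Agent.Lib.EulerPull.Abelian
import Groth.Agent.Lib.LocFreeHom.Lift

/-! # Bundles pulled back from the base -/

set_option autoImplicit false
set_option linter.style.haveILetI false
set_option backward.isDefEq.respectTransparency false
set_option maxHeartbeats 2000000
universe u

noncomputable section

open CategoryTheory CategoryTheory.Limits AlgebraicGeometry Opposite TopologicalSpace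

namespace GrothLib.FibTriv28

open GrothLib

section Square

variable {X S X' S' : Scheme.{u}} {f : X ⟶ S} {g : S' ⟶ S} {f' : X' ⟶ S'} {g' : X' ⟶ X}
  (w : g' ≫ f = f' ≫ g) (hh : ∀ U, Function.Bijective (f'.app U)) (E : X.Modules)

include w hh in
/-- The counit restricted along a square, through the base change map. -/
theorem isIso_pullback_counit' (M' : S'.Modules) (hM' : FlatMod.IsFinLocFree M')
    (e : (Scheme.Modules.pullback g').obj E ≅ (Scheme.Modules.pullback f').obj M')
    [IsIso (CohBC.bc0 f g f' g' w E)] :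
    IsIso ((Scheme.Modules.pullback g').map ((Scheme.Modules.pullbackPushforwardAdjunction f).counit.app E)) := by
  let adj := Scheme.Modules.pullbackPushforwardAdjunction f'
  haveI : IsIso (adj.counit.app ((Scheme.Modules.pullback g').obj E)) :=
    ((UnitLF26.isPullback_iff f' hh _).1 ⟨_, hM', ⟨e⟩⟩).2
  have hm := RegSheaf.bc0_eq_mate f g f' g' w E
  rw [← Equiv.eq_symm_apply] at hm
  set k := (Scheme.Modules.pullback g').map ((Scheme.Modules.pullbackPushforwardAdjunction f).counit.app E)
  have hk : IsIso ((Scheme.Modules.pullbackComp f' g).hom.app ((Scheme.Modules.pushforward f).obj E) ≫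
      (Scheme.Modules.pullbackCongr w.symm).hom.app _ ≫
        (Scheme.Modules.pullbackComp g' f).inv.app _ ≫ k) := by
    rw [hm, Adjunction.homEquiv_counit]
    haveI : IsIso (adj.counit.app ((Scheme.Modules.pullback g').obj ((𝟭 X.Modules).obj E))) := ‹_›
    exact IsIso.comp_isIso
  haveI := hk
  haveI := IsIso.of_isIso_comp_left ((Scheme.Modules.pullbackComp f' g).hom.app ((Scheme.Modules.pushforward f).obj E))
    ((Scheme.Modules.pullbackCongr w.symm).hom.app _ ≫ (Scheme.Modules.pullbackComp g' f).inv.app _ ≫ k)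
  haveI := IsIso.of_isIso_comp_left ((Scheme.Modules.pullbackCongr w.symm).hom.app ((Scheme.Modules.pushforward f).obj E))
    ((Scheme.Modules.pullbackComp g' f).inv.app _ ≫ k)
  exact IsIso.of_isIso_comp_left ((Scheme.Modules.pullbackComp g' f).inv.app ((Scheme.Modules.pushforward f).obj E)) k

include hh in
/-- If the counit restricts to an isomorphism then so is the base change map. -/
theorem isIso_bc0_of_isIso_pullback_counit (hN : FlatMod.IsFinLocFree ((Scheme.Modules.pushforward f).obj E))
    [IsIso ((Scheme.Modules.pullback g').map ((Scheme.Modules.pullbackPushforwardAdjunction f).counit.app E))] :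
    IsIso (CohBC.bc0 f g f' g' w E) ∧ Nonempty ((Scheme.Modules.pullback g').obj E ≅
      (Scheme.Modules.pullback f').obj ((Scheme.Modules.pullback g).obj ((Scheme.Modules.pushforward f).obj E))) := by
  let N := (Scheme.Modules.pushforward f).obj E
  let k := (Scheme.Modules.pullback g').map ((Scheme.Modules.pullbackPushforwardAdjunction f).counit.app E)
  let e₁ : (Scheme.Modules.pullback f').obj ((Scheme.Modules.pullback g).obj N) ≅
      (Scheme.Modules.pullback g').obj ((Scheme.Modules.pullback f).obj N) :=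
    (Scheme.Modules.pullbackComp f' g).app N ≪≫ (Scheme.Modules.pullbackCongr w.symm).app N ≪≫
      ((Scheme.Modules.pullbackComp g' f).app N).symm
  refine ⟨?_, ⟨(e₁ ≪≫ asIso k).symm⟩⟩
  rw [← RegSheaf.bc0_eq_mate f g f' g' w E, Adjunction.homEquiv_unit]
  haveI : IsIso ((Scheme.Modules.pullbackPushforwardAdjunction f').unit.app ((Scheme.Modules.pullback g).obj N)) :=
    UnitLF26.isIso_unit f' hh (OX.isFinLocFree_pullback g hN)
  exact IsIso.comp_isIso

end Square

theorem exists_free_of_subsingleton {Z : Scheme.{u}} [Subsingleton Z] [Nonempty Z] {M : Z.Modules}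
    (hM : FlatMod.IsFinLocFree M) : ∃ n, Nonempty (M ≅ FlatMod.freeMod Z n) := by
  obtain ⟨U, n, hz, h⟩ := hM (Classical.arbitrary Z)
  exact ⟨n, EulerPull.nonempty_free_iso_of_subsingleton fun y => ⟨U, Subsingleton.elim (Classical.arbitrary Z) y ▸ hz, h⟩⟩

variable {X S : Scheme.{u}} (f : X ⟶ S) [IsProper f] [Flat f] [GeometricallyConnected f] [GeometricallyReduced f]

omit [Flat f] in
/-- Fibres have no non-constant functions. -/
theorem bijective_fiber_app (s : S) (U : (Spec (S.residueField s)).Opens) :
    Function.Bijective ((f.fiberToSpecResidueField s).app U) := by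
  haveI : IsProper (f.fiberToSpecResidueField s) := inferInstanceAs (IsProper (pullback.snd f (S.fromSpecResidueField s)))
  haveI : GeometricallyConnected (f.fiberToSpecResidueField s) :=
    inferInstanceAs (GeometricallyConnected (pullback.snd f (S.fromSpecResidueField s)))
  haveI : GeometricallyReduced (f.fiberToSpecResidueField s) :=
    inferInstanceAs (GeometricallyReduced (pullback.snd f (S.fromSpecResidueField s)))
  haveI : Flat (f.fiberToSpecResidueField s) := inferInstance
  exact Seesaw26.bijective_app (f.fiberToSpecResidueField s)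
    (Seesaw26.finrank_fiber_functions_eq_one (f.fiberToSpecResidueField s)) U

omit [Flat f] in
theorem nonempty_fiber (s : S) : Nonempty ↥(f.fiber s) := inferInstance

variable [LocallyOfFinitePresentation f]

theorem bijective_app (U : S.Opens) : Function.Bijective (f.app U) :=
  Seesaw26.bijective_app_of_invertible f
    (Seesaw26.invertible_push_structure f (Seesaw26.finrank_fiber_functions_eq_one f)) U

variable (E : X.Modules) (hE : FlatMod.IsFinLocFree E) (r : S → ℕ) (hr : ∀ x, rk E x = r (f x))

omit [Flat f] [LocallyOfFinitePresentation f] in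
include hr hE in
theorem rank_eq (s : S) {n : ℕ} (e : (Scheme.Modules.pullback (f.fiberι s)).obj E ≅ FlatMod.freeMod (f.fiber s) n) :
    n = r s := by
  obtain ⟨z⟩ := nonempty_fiber f s
  rw [← show f (f.fiberι s z) = s from (f.range_fiberι s).le ⟨z, rfl⟩, ← hr, ← rk_pullback (f.fiberι s) hE z,
    rk_iso e z, rk_freeMod]

include hE hr in
/-- A bundle from the base is good and trivial on the fibres. -/
theorem good_of_base {M : S.Modules} (hM : FlatMod.IsFinLocFree M) (i : E ≅ (Scheme.Modules.pullback f).obj M) (s : S) :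
    BCCrit.GoodAll f E ((0 : ℕ) : ℤ) s ∧ CohIII.fiberRank f E 0 s = r s ∧
      Nonempty ((Scheme.Modules.pullback (f.fiberι s)).obj E ≅ FlatMod.freeMod (f.fiber s) (r s)) := by
  obtain ⟨hN, hc⟩ := (UnitLF26.isPullback_iff f (bijective_app f) E).1 ⟨M, hM, ⟨i⟩⟩
  haveI := hc
  obtain ⟨hbc, ⟨e⟩⟩ := isIso_bc0_of_isIso_pullback_counit (f.fiber_fac s) (bijective_fiber_app f s) E hN
  obtain ⟨n, ⟨e₂⟩⟩ := exists_free_of_subsingleton
    (OX.isFinLocFree_pullback (S.fromSpecResidueField s) hN)
  let e₃ := e ≪≫ (Scheme.Modules.pullback (f.fiberToSpecResidueField s)).mapIso e₂ ≪≫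
    OX.pullFreeModIso (f.fiberToSpecResidueField s) n
  obtain rfl := rank_eq f E hE r hr s e₃
  haveI : E.IsQuasicoherent := Euler.isQuasicoherent_of_isFinLocFree hE
  haveI : Coh.IsQCoh E := ‹E.IsQuasicoherent›
  refine ⟨(BCCrit.goodAll_iff_epi0 (LocFree8.isFP_of_isFinLocFree _ hE)
      (LocFreeHom.isFlatOver_of_isFinLocFree f hE) s).2 ?_,
    fiberRank_of_iso f E s _ (bijective_fiber_app f s ⊤) e₃, ⟨e₃⟩⟩
  haveI := hbc
  infer_instance

include hE hr in
/-- Good and trivial on the fibres means from the base. -/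
theorem base_of_good (hgood : ∀ s, BCCrit.GoodAll f E ((0 : ℕ) : ℤ) s)
    (htriv : ∀ s, Nonempty ((Scheme.Modules.pullback (f.fiberι s)).obj E ≅ FlatMod.freeMod (f.fiber s) (r s))) :
    ∃ M : S.Modules, FlatMod.IsFinLocFree M ∧ Nonempty (E ≅ (Scheme.Modules.pullback f).obj M) := by
  haveI : E.IsQuasicoherent := Euler.isQuasicoherent_of_isFinLocFree hE
  haveI : Coh.IsQCoh E := ‹E.IsQuasicoherent›
  have hFP := LocFree8.isFP_of_isFinLocFree _ hE
  have hfl := LocFreeHom.isFlatOver_of_isFinLocFree f hE
  have hN : FlatMod.IsFinLocFree ((Scheme.Modules.pushforward f).obj E) := fun s => by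
    obtain ⟨U, n, hs, hφ, -⟩ := BCCrit.exists_free_near0 hFP hfl s (hgood s)
    exact ⟨U, n, hs, hφ⟩
  let c := (Scheme.Modules.pullbackPushforwardAdjunction f).counit.app E
  haveI : IsIso c := by
    refine (OX.isIso_iff c).2 fun x => ?_
    obtain ⟨z, hz⟩ : x ∈ Set.range (f.fiberι (f x)) := by rw [f.range_fiberι]; rfl
    haveI : IsIso (CohBC.bc0 f (S.fromSpecResidueField (f x)) (f.fiberToSpecResidueField (f x)) (f.fiberι (f x))
        (f.fiber_fac (f x)) E) :=
      BCCrit.isIso_bc0_of_goodAll hFP hfl ⊤ (fun s _ => hgood s)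
        (IsPullback.of_hasPullback f (S.fromSpecResidueField (f x))) fun _ => trivial
    haveI : IsIso ((Scheme.Modules.pullback (f.fiberι (f x))).map c) :=
      isIso_pullback_counit f E (f x) (r (f x)) (bijective_fiber_app f (f x)) (htriv (f x)).some
    rw [← hz]
    exact isIso_stalk_of_isIso_pullback (f.fiberι (f x)) (OX.isFinLocFree_pullback f hN) hE c z
  exact ⟨_, hN, ⟨(asIso c).symm⟩⟩

end GrothLib.FibTriv28
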