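import Groth.Agent.Lib.FibTriv28.Fibre
import Groth.Agent.Lib.Euler.GenericCompare
import Groth.Agent.Lib.OX.FibreRank
import Groth.Agent.Lib.OX.ModFibre
import Groth.Agent.Lib.FgSupport6.Separate
import Groth.Agent.Lib.QCoh.LocGenCases
import Mathlib.LinearAlgebra.Determinant

/-! # Where a map of bundles is an isomorphism -/

set_option autoImplicit false
set_option linter.style.haveILetI false
set_option backward.isDefEq.respectTransparency false
set_option maxHeartbeats 1000000
universe u

noncomputable section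

open CategoryTheory CategoryTheory.Limits AlgebraicGeometry Opposite TopologicalSpace TensorProduct Topology

namespace GrothLib.FibTriv28

open GrothLib

theorem surjective_of_baseChange_field {R K : Type u} [CommRing R] [IsLocalRing R] [CommRing K] [Algebra R K]
    (hK : IsField K) [IsLocalHom (algebraMap R K)] {M N : Type u} [AddCommGroup M] [Module R M] [AddCommGroup N]
    [Module R N] [Module.Finite R N] (f : M →ₗ[R] N) (h : Function.Surjective (f.baseChange K)) :
    Function.Surjective f := by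
  let C := N ⧸ LinearMap.range f
  let q := (LinearMap.range f).mkQ
  have h0 : ∀ x : K ⊗[R] N, q.baseChange K x = 0 := fun x => by
    obtain ⟨y, rfl⟩ := h x
    rw [← LinearMap.comp_apply, ← LinearMap.baseChange_comp,
      show q ∘ₗ f = 0 from LinearMap.ext fun z => (Submodule.Quotient.mk_eq_zero _).2 ⟨z, rfl⟩]
    simp
  haveI : Subsingleton (K ⊗[R] C) := subsingleton_of_forall_eq 0 fun c => by
    obtain ⟨x, rfl⟩ := LinearMap.lTensor_surjective K (Submodule.mkQ_surjective (LinearMap.range f)) c
    exact h0 x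
  haveI : Subsingleton C :=
    ModFibre.subsingleton_of_extendScalars' (algebraMap R K) hK (ModuleCat.of R C)
      (ModuleCat.isZero_of_iff_subsingleton.2 (by
        show Subsingleton (@TensorProduct R _ K C _ _ ((algebraMap R K).toAlgebra.toModule) _)
        rw [show (algebraMap R K).toAlgebra = ‹Algebra R K› from Algebra.algebra_ext _ _ fun _ => rfl]
        infer_instance))
  exact LinearMap.range_eq_top.1 (Submodule.Quotient.subsingleton_iff.1 inferInstance)

/-- A map of bundles which becomes an isomorphism after a pullback is an isomorphism at the image points. -/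
theorem isIso_stalk_of_isIso_pullback' {X Z : Scheme.{u}} (i : Z ⟶ X) {F E : X.Modules}
    (hF : FlatMod.IsFinLocFree F) (hE : FlatMod.IsFinLocFree E) (φ : F ⟶ E)
    [IsIso ((Scheme.Modules.pullback i).map φ)] (z : Z) : IsIso ((OX.stalk (i z)).map φ) := by
  let g := Z.fromSpecResidueField z ≫ i
  let w : Spec (Z.residueField z) := IsLocalRing.closedPoint (Z.residueField z)
  have hgw : g w = i z := by
    show i (Z.fromSpecResidueField z w) = i z
    rw [Scheme.fromSpecResidueField_apply]
  haveI : IsIso ((Scheme.Modules.pullback g).map φ) :=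
    (NatIso.isIso_map_iff (Scheme.Modules.pullbackComp (Z.fromSpecResidueField z) i) φ).1
      (inferInstanceAs (IsIso ((Scheme.Modules.pullback (Z.fromSpecResidueField z)).map
        ((Scheme.Modules.pullback i).map φ))))
  rw [← hgw]
  obtain ⟨U, hx, h⟩ := exists_nhd_rk hF (g w)
  obtain ⟨hFfree, hFfin, -⟩ := h _ hx
  obtain ⟨V, hx', h'⟩ := exists_nhd_rk hE (g w)
  obtain ⟨hEfree, hEfin, -⟩ := h' _ hx'
  have hrk : rk F (g w) = rk E (g w) := by
    rw [← rk_pullback g hF w, ← rk_pullback g hE w]
    exact rk_iso (asIso ((Scheme.Modules.pullback g).map φ)) w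
  have hz : Epi ((ModuleCat.extendScalars (g.stalkMap w).hom).map ((OX.stalk (g w)).map φ)) := by
    refine ((MorphismProperty.epimorphisms _).arrow_mk_iso_iff
      (Arrow.isoMk ((OX.pullStalkIso g w).app F) ((OX.pullStalkIso g w).app E)
        ((OX.pullStalkIso g w).hom.naturality φ).symm)).1 ?_
    exact (OX.epi_iff _).1 (inferInstance : Epi ((Scheme.Modules.pullback g).map φ)) w
  rw [ModuleCat.epi_iff_surjective] at hz
  haveI : Module.Finite (X.presheaf.stalk (g w)) ((OX.stalk (g w)).obj E) := hEfin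
  haveI : Module.Free (X.presheaf.stalk (g w)) ((OX.stalk (g w)).obj E) := hEfree
  haveI : Module.Finite (X.presheaf.stalk (g w)) ((OX.stalk (g w)).obj F) := hFfin
  haveI : Module.Free (X.presheaf.stalk (g w)) ((OX.stalk (g w)).obj F) := hFfree
  letI : Algebra (X.presheaf.stalk (g w)) ((Spec (Z.residueField z)).presheaf.stalk w) := (g.stalkMap w).hom.toAlgebra
  haveI : IsLocalHom (algebraMap (X.presheaf.stalk (g w)) ((Spec (Z.residueField z)).presheaf.stalk w)) :=
    inferInstanceAs (IsLocalHom (g.stalkMap w).hom)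
  have hs : Function.Surjective ((OX.stalk (g w)).map φ).hom :=
    surjective_of_baseChange_field (OX.isField_stalk_spec _ (Field.toIsField _) w) _ hz
  let e : (OX.stalk (g w)).obj E ≃ₗ[X.presheaf.stalk (g w)] (OX.stalk (g w)).obj F :=
    LinearEquiv.ofFinrankEq _ _ hrk.symm
  have hi : Function.Injective (e.toLinearMap ∘ₗ ((OX.stalk (g w)).map φ).hom) :=
    OrzechProperty.injective_of_surjective_endomorphism _ (e.surjective.comp hs)
  exact (ConcreteCategory.isIso_iff_bijective _).2
    ⟨Function.Injective.of_comp (f := e) (g := ((OX.stalk (g w)).map φ).hom) hi, hs⟩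

/-- Near every point the isomorphism locus of a map of bundles of equal ranks is a basic open. -/
theorem exists_basicOpen_isIso_stalk {X : Scheme.{u}} {F E : X.Modules} (hF : FlatMod.IsFinLocFree F)
    (hE : FlatMod.IsFinLocFree E) (hr : ∀ x, rk F x = rk E x) (φ : F ⟶ E) (x : X) :
    ∃ (U : X.Opens) (g : Γ(X, U)), IsAffineOpen U ∧ x ∈ U ∧
      ∀ y ∈ U, IsIso ((OX.stalk y).map φ) ↔ y ∈ X.basicOpen g := by
  classical
  obtain ⟨U₁, n, hx₁, ⟨φ₁⟩⟩ := hF x
  obtain ⟨U₂, m, hx₂, ⟨φ₂⟩⟩ := hE x
  obtain ⟨a, ha⟩ := FinCov.exists_frame_of_iso φ₁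
  obtain ⟨b, hb⟩ := FinCov.exists_frame_of_iso φ₂
  have hx₁' : x ∈ U₁.ι ''ᵁ ⊤ := by rw [Scheme.Opens.ι_image_top]; exact hx₁
  have hx₂' : x ∈ U₂.ι ''ᵁ ⊤ := by rw [Scheme.Opens.ι_image_top]; exact hx₂
  obtain rfl : n = m := by
    obtain ⟨B₁⟩ := Euler.stalk_basis_of_frame ha hx₁'
    obtain ⟨B₂⟩ := Euler.stalk_basis_of_frame hb hx₂'
    have h1 := Module.finrank_eq_nat_card_basis B₁
    have h2 := Module.finrank_eq_nat_card_basis B₂
    have h3 := hr x
    unfold rk at h3
    rw [h1, h2] at h3
    simpa using h3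
  obtain ⟨U, hU, hxU, hle⟩ := exists_isAffineOpen_mem_and_subset
    (show x ∈ U₁.ι ''ᵁ ⊤ ⊓ U₂.ι ''ᵁ ⊤ from ⟨hx₁', hx₂'⟩)
  have hle₁ : U ≤ U₁.ι ''ᵁ ⊤ := fun z hz => (hle hz).1
  have hle₂ : U ≤ U₂.ι ''ᵁ ⊤ := fun z hz => (hle hz).2
  choose c hc using fun i : Fin n => (hb U hle₂).2 (φ.app U (F.presheaf.map (homOfLE hle₁).op (a i)))
  let M : Matrix (Fin n) (Fin n) Γ(X, U) := Matrix.of fun j i => c i j
  refine ⟨U, M.det, hU, hxU, fun y hy => ?_⟩
  let R := X.presheaf.stalk y
  let LF : (Fin n → R) →ₗ[R] F.presheaf.stalk y :=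
    Fintype.linearCombination R fun i => F.presheaf.germ (U₁.ι ''ᵁ ⊤) y (hle₁ hy) (a i)
  let LE : (Fin n → R) →ₗ[R] E.presheaf.stalk y :=
    Fintype.linearCombination R fun i => E.presheaf.germ (U₂.ι ''ᵁ ⊤) y (hle₂ hy) (b i)
  have hLF : Function.Bijective LF := by
    have h := Euler.bijective_germ_comb ha (hle₁ hy)
    convert h using 1
    funext c
    exact Fintype.linearCombination_apply _ _ c
  have hLE : Function.Bijective LE := by
    have h := Euler.bijective_germ_comb hb (hle₂ hy)
    convert h using 1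
    funext c
    exact Fintype.linearCombination_apply _ _ c
  let N : Matrix (Fin n) (Fin n) R := M.map (X.presheaf.germ U y hy).hom
  have hN : ∀ v, QCoh.stalkLin φ y (LF v) = LE (N.mulVec v) := by
    suffices h : (QCoh.stalkLin φ y).comp LF = LE.comp N.mulVecLin from LinearMap.congr_fun h
    refine LinearMap.pi_ext' fun i => LinearMap.ext_ring ?_
    show QCoh.stalkLin φ y (LF (Pi.single i 1)) = LE (N.mulVec (Pi.single i 1))
    simp only [LF, Fintype.linearCombination_apply_single, one_smul, Matrix.mulVec_single_one]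
    rw [← TopCat.Presheaf.germ_res_apply F.presheaf (homOfLE hle₁) y hy, QCoh.stalkLin_germ, ← hc i,
      Euler.germ_sum_smul, Fintype.linearCombination_apply]
    refine Finset.sum_congr rfl fun j _ => ?_
    simp only [TopCat.Presheaf.germ_res_apply]
    rfl
  have key : Function.Bijective (QCoh.stalkLin φ y) ↔ Function.Bijective N.mulVecLin := by
    have e : ⇑(QCoh.stalkLin φ y) ∘ ⇑LF = ⇑LE ∘ ⇑N.mulVecLin := funext hN
    constructor
    · intro h
      exact (Function.Bijective.of_comp_iff' hLE _).1 (e ▸ h.comp hLF)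
    · intro h
      exact (Function.Bijective.of_comp_iff _ hLF).1 (e.symm ▸ hLE.comp h)
  rw [ConcreteCategory.isIso_iff_bijective, show (⇑((OX.stalk y).map φ) : _ → _) = QCoh.stalkLin φ y from rfl,
    key, Scheme.mem_basicOpen _ _ y hy, RingHom.map_det]
  show Function.Bijective N.mulVec ↔ IsUnit N.det
  rw [← Matrix.isUnit_iff_isUnit_det]
  exact ⟨fun h => Matrix.mulVec_surjective_iff_isUnit.1 h.2,
    fun h => ⟨Matrix.mulVec_injective_of_isUnit h, Matrix.mulVec_surjective_iff_isUnit.2 h⟩⟩

/-- The non-isomorphism locus is locally constructible. -/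
theorem isLocallyConstructible_notIso {X : Scheme.{u}} {F E : X.Modules} (hF : FlatMod.IsFinLocFree F)
    (hE : FlatMod.IsFinLocFree E) (hr : ∀ x, rk F x = rk E x) (φ : F ⟶ E) :
    IsClosed {x : X | ¬ IsIso ((OX.stalk x).map φ)} ∧
      IsLocallyConstructible {x : X | ¬ IsIso ((OX.stalk x).map φ)} := by
  constructor
  · rw [← isOpen_compl_iff, isOpen_iff_forall_mem_open]
    intro x hx
    obtain ⟨U, g, hU, hxU, h⟩ := exists_basicOpen_isIso_stalk hF hE hr φ x
    exact ⟨X.basicOpen g, fun y hy => not_not.2 ((h y (X.basicOpen_le g hy)).2 hy), (X.basicOpen g).2,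
      (h x hxU).1 (not_not.1 hx)⟩
  · intro x
    obtain ⟨U, g, hU, hxU, h⟩ := exists_basicOpen_isIso_stalk hF hE hr φ x
    refine ⟨U, U.2.mem_nhds hxU, U.2, ?_⟩
    have e : ((Subtype.val : U → X) ⁻¹' {x : X | ¬ IsIso ((OX.stalk x).map φ)}) = ((Subtype.val : U → X) ⁻¹' (X.basicOpen g : Set X))ᶜ := by
      ext z
      exact not_congr (h z.1 z.2)
    refine e ▸ (isConstructible_compl.2 ?_)
    haveI : CompactSpace U := isCompact_iff_compactSpace.mp hU.isCompact
    haveI : QuasiSeparatedSpace (U : Set X) := by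
      haveI : IsAffine (U : Scheme.{u}) := hU
      exact inferInstanceAs (QuasiSeparatedSpace (U : Scheme.{u}))
    have ho : IsOpen ((Subtype.val : U → X) ⁻¹' (X.basicOpen g : Set X)) :=
      (X.basicOpen g).2.preimage continuous_subtype_val
    refine IsCompact.isConstructible ?_ ho
    refine Topology.IsInducing.subtypeVal.isCompact_iff.2 ?_
    convert (hU.basicOpen g).isCompact using 1
    ext z
    exact ⟨fun ⟨a, ha, e⟩ => e ▸ ha, fun hz => ⟨⟨z, X.basicOpen_le g hz⟩, hz, rfl⟩⟩

/-- An open whose complement is locally constructible is retrocompact. -/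
theorem quasiCompact_ι_of_isLocallyConstructible {X : Scheme.{u}} (W : X.Opens)
    (h : IsLocallyConstructible ((W : Set X)ᶜ)) : QuasiCompact W.ι := by
  refine QCoh.quasiCompact_ι_of_forall W fun V hV => ?_
  haveI : IsAffine (V : Scheme.{u}) := hV
  have h1 := (h.preimage_of_isOpenEmbedding V.ι.isOpenEmbedding).isConstructible
  rw [Set.preimage_compl, isConstructible_compl] at h1
  have h2 := (FgSupport6.isCompact_of_isConstructible h1).image V.ι.continuous
  rw [Set.image_preimage_eq_inter_range, Scheme.Opens.range_ι, Set.inter_comm] at h2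
  exact h2

end GrothLib.FibTriv28
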