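import Groth.Agent.Lib.BCCrit.StratumPush

/-! # The stratum of prescribed locally constant rank -/

set_option autoImplicit false
set_option linter.style.haveILetI false
set_option backward.isDefEq.respectTransparency false
set_option maxHeartbeats 2000000
universe u

noncomputable section

open CategoryTheory CategoryTheory.Limits AlgebraicGeometry Opposite TopologicalSpace

namespace GrothLib.FibTriv28

open GrothLib BCCrit BCCoh

variable {X S : Scheme.{u}} (f : X ⟶ S) (F : X.Modules) (r : S → ℕ)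

/-- Good everywhere with the prescribed rank. -/
def Q {T : Scheme.{u}} (u : T ⟶ S) : Prop :=
  ∀ t : T, GoodAll (pullback.snd f u) ((Scheme.Modules.pullback (pullback.fst f u)).obj F) ((0 : ℕ) : ℤ) t ∧
    CohIII.fiberRank (pullback.snd f u) ((Scheme.Modules.pullback (pullback.fst f u)).obj F) 0 t = r (u t)

variable {f F r} [IsProper f] [LocallyOfFinitePresentation f] [Coh.IsQCoh F] (hfp : CohB1.IsFP F)
  (hfl : FlatMod.IsFlatOver f F) (hr : IsLocallyConstant r)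

include hfp hfl hr in
theorem q_opens_iff {T : Scheme.{u}} (u : T ⟶ S) (W : T.Opens) :
    Q f F r (W.ι ≫ u) ↔ ∀ t, t ∈ W →
      GoodAll (pullback.snd f u) ((Scheme.Modules.pullback (pullback.fst f u)).obj F) ((0 : ℕ) : ℤ) t ∧
      CohIII.fiberRank (pullback.snd f u) ((Scheme.Modules.pullback (pullback.fst f u)).obj F) 0 t = r (u t) := by
  let Sn : ℕ → S.Opens := fun n => ⟨{s | r s = n}, hr.isOpen_fiber n⟩
  let A : ℕ → T.Opens := fun n => W ⊓ u ⁻¹ᵁ Sn n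
  let B : ℕ → W.toScheme.Opens := fun n => (W.ι ≫ u) ⁻¹ᵁ Sn n
  have key : ∀ n, Pt f F n ((B n).ι ≫ W.ι ≫ u) ↔ Pt f F n ((A n).ι ≫ u) := by
    intro n
    let a : (B n).toScheme ⟶ (A n).toScheme := IsOpenImmersion.lift (A n).ι ((B n).ι ≫ W.ι) (by
      rintro _ ⟨z, rfl⟩
      rw [Scheme.Opens.range_ι]
      exact ⟨z.1.2, z.2⟩)
    let b : (A n).toScheme ⟶ (B n).toScheme := IsOpenImmersion.lift ((B n).ι ≫ W.ι) (A n).ι (by
      rintro _ ⟨z, rfl⟩
      exact ⟨⟨⟨z.1, z.2.1⟩, z.2.2⟩, rfl⟩)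
    constructor
    · intro h
      have := pt_comp n hfp hfl b h
      rwa [show b ≫ (B n).ι ≫ W.ι ≫ u = (A n).ι ≫ u by
        rw [← Category.assoc (B n).ι, ← Category.assoc b, IsOpenImmersion.lift_fac]] at this
    · intro h
      have := pt_comp n hfp hfl a h
      rwa [show a ≫ (A n).ι ≫ u = (B n).ι ≫ W.ι ≫ u by
        rw [← Category.assoc a, IsOpenImmersion.lift_fac, Category.assoc]] at this
  constructor
  · intro h t ht
    obtain ⟨n, hn⟩ : ∃ n, r (u t) = n := ⟨_, rfl⟩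
    have h1 := (pt_opens_iff n hfp hfl (W.ι ≫ u) (B n)).2 fun z hz =>
      ⟨(h z).1, (h z).2.trans hz⟩
    obtain ⟨h2, h3⟩ := (pt_opens_iff n hfp hfl u (A n)).1 ((key n).1 h1) t ⟨ht, hn⟩
    exact ⟨h2, h3.trans hn.symm⟩
  · intro h z
    obtain ⟨n, hn⟩ : ∃ n, r ((W.ι ≫ u) z) = n := ⟨_, rfl⟩
    have h1 := (pt_opens_iff n hfp hfl u (A n)).2 fun t ht => ⟨(h t ht.1).1, (h t ht.1).2.trans ht.2⟩
    obtain ⟨h2, h3⟩ := (pt_opens_iff n hfp hfl (W.ι ≫ u) (B n)).1 ((key n).2 h1) z hn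
    exact ⟨h2, h3.trans hn.symm⟩

include hfp hfl hr in
theorem q_comp {T T' : Scheme.{u}} (j : T' ⟶ T) {u : T ⟶ S} (h : Q f F r u) : Q f F r (j ≫ u) := by
  intro t'
  obtain ⟨n, hn⟩ : ∃ n, r ((j ≫ u) t') = n := ⟨_, rfl⟩
  let Sn : S.Opens := ⟨{s | r s = n}, hr.isOpen_fiber n⟩
  let W₀ := u ⁻¹ᵁ Sn
  let W := (j ≫ u) ⁻¹ᵁ Sn
  have h0 : Pt f F n (W₀.ι ≫ u) := (pt_opens_iff n hfp hfl u W₀).2 fun t ht => ⟨(h t).1, (h t).2.trans ht⟩
  have h1 := pt_comp n hfp hfl (j.resLE W₀ W (fun z hz => hz)) h0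
  rw [← Category.assoc, Scheme.Hom.resLE_comp_ι, Category.assoc] at h1
  obtain ⟨h2, h3⟩ := (pt_opens_iff n hfp hfl (j ≫ u) W).1 h1 t' hn
  exact ⟨h2, h3.trans hn.symm⟩

include hfp hfl hr in
/-- **The stratum of prescribed rank exists.** -/
theorem exists_stratum : ∃ (Z : Scheme.{u}) (ι : Z ⟶ S), IsImmersion ι ∧ LocallyOfFinitePresentation ι ∧
    QuasiCompact ι ∧ (∀ (T : Scheme.{u}) (u : T ⟶ S), (∃ u' : T ⟶ Z, u' ≫ ι = u) ↔ Q f F r u) := by
  refine (fun ⟨Z, ι, h1, h2, h3, h4, _⟩ => ⟨Z, ι, h1, h2, h3, h4⟩) (LocClosedRep.exists_immersion_of_charts (fun _ u => Q f F r u)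
    (fun j _ h => q_comp hfp hfl hr j h) (fun u h t => ?_)
    {s : S | CohIII.fiberRank f F 0 s ≤ r s} {s : S | CohIII.fiberRank f F 0 s = r s} fun s => ?_)
  · obtain ⟨W, htW, hW⟩ := h t
    exact (q_opens_iff hfp hfl hr u W).1 hW t htW
  · obtain ⟨V, hV, I, J, hs, hI, hJ, hc⟩ := exists_chart (r s) hfp hfl s
    obtain ⟨g, hgle, hsg⟩ := hV.exists_basicOpen_le
      (V := (⟨{y | r y = r s}, hr.isOpen_fiber (r s)⟩ : S.Opens)) ⟨s, rfl⟩ hs
    let D := S.basicOpen g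
    let ρ := S.presheaf.map (homOfLE (S.basicOpen_le g)).op
    have hD : IsAffineOpen D := hV.basicOpen g
    have hres : ∀ (j : Γ(S, V)) (y : S), y ∈ D → (y ∈ S.basicOpen (ρ.hom j) ↔ y ∈ S.basicOpen j) := fun j y hy => by
      rw [Scheme.basicOpen_res]
      exact ⟨fun h => h.2, fun h => ⟨hy, h⟩⟩
    have hmap : ∀ (K : Ideal Γ(S, V)) (y : S) (hy : y ∈ D),
        (∃ j ∈ K.map ρ.hom, y ∈ S.basicOpen j) ↔ ∃ j ∈ K, y ∈ S.basicOpen j := fun K y hy => by
      refine ⟨fun ⟨j', hj', hy'⟩ => ?_, fun ⟨j, hj, hy'⟩ => ⟨_, Ideal.mem_map_of_mem _ hj, (hres j y hy).2 hy'⟩⟩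
      by_contra h
      push_neg at h
      refine (notMem_primeIdealOf hD hy j').2 hy' ((Ideal.map_le_iff_le_comap.2 fun j hj => ?_) hj')
      show ρ.hom j ∈ (hD.primeIdealOf ⟨y, hy⟩).asIdeal
      by_contra h'
      exact h j hj ((hres j y hy).1 ((notMem_primeIdealOf hD hy _).1 h'))
    refine ⟨D, hD, I.map ρ.hom, J.map ρ.hom, hsg, hI.map _, hJ.map _, fun y hy => ?_, fun {T} u W hW e => ?_⟩
    · have hyn : r y = r s := hgle hy
      obtain ⟨hJ', hI'⟩ := hc.1 y (S.basicOpen_le g hy)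
      refine ⟨?_, ?_⟩
      · show CohIII.fiberRank f F 0 y ≤ r y ↔ _
        rw [hmap J y hy, hyn]
        exact hJ'
      · show CohIII.fiberRank f F 0 y = r y ↔ _ ∧ CohIII.fiberRank f F 0 y ≤ r y
        rw [hyn, hI']
        refine and_congr_left' ?_
        have := not_congr (hmap I y hy)
        push_neg at this
        exact this.symm
    · have e₀ : W ≤ u ⁻¹ᵁ V := e.trans (u.preimage_mono (S.basicOpen_le g))
      have hφ : (u.appLE D W e).hom.comp ρ.hom = (u.appLE V W e₀).hom :=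
        congrArg CommRingCat.Hom.hom (Scheme.Hom.map_appLE u e (homOfLE (S.basicOpen_le g)).op)
      rw [Ideal.map_map, Ideal.map_map, hφ]
      refine (q_opens_iff hfp hfl hr u W).trans (Iff.trans ?_ (hc.2 u W hW e₀))
      exact forall₂_congr fun t ht => by rw [show r (u t) = r s from hgle (e ht)]

end GrothLib.FibTriv28
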